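import Cfsg.Agent.CharDeep.ZassBasic

/-!
Doubly transitive groups with an involution `t` all of whose non-identity centralising elements fix
the same number `i` of points: the centraliser of `t` has order `n - i` and every element
interchanging two points is conjugate to `t` (helper88).
-/

set_option autoImplicit false
set_option linter.unusedSectionVars false

namespace Cfsg.Agent.Fixity88

open MulAction Cfsg.Agent.CharDeep

variable {G Ω : Type*} [Group G] [MulAction G Ω]

/-- The fixed points of `g`. -/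
def fixSet (Ω : Type*) [MulAction G Ω] (g : G) : Set Ω := {x | g • x = x}

theorem mem_fixSet {g : G} {x : Ω} : x ∈ fixSet Ω g ↔ g • x = x := Iff.rfl

/-- The number of fixed points of `g`. -/
noncomputable def nfixed (Ω : Type*) [MulAction G Ω] (g : G) : ℕ := (fixSet Ω g).ncard

theorem nfixed_conj (c g : G) : nfixed Ω (c * g * c⁻¹) = nfixed Ω g := by
  have e : fixSet Ω (c * g * c⁻¹) = (fun x => c • x) '' fixSet Ω g := by
    ext x
    simp only [mem_fixSet, Set.mem_image]
    constructor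
    · intro hx
      refine ⟨c⁻¹ • x, ?_, smul_inv_smul c x⟩
      rw [eq_inv_smul_iff, ← mul_smul, ← mul_smul]
      exact hx
    · rintro ⟨y, hy, rfl⟩
      rw [mul_smul, mul_smul, inv_smul_smul, hy]
  rw [nfixed, e, Set.ncard_image_of_injective _ (MulAction.injective c), nfixed]

/-- `g` interchanges `x` and `y`. -/
def Swaps (g : G) (x y : Ω) : Prop := g • x = y ∧ g • y = x

theorem Swaps.symm {g : G} {x y : Ω} (h : Swaps g x y) : Swaps g y x := ⟨h.2, h.1⟩

theorem swaps_of_sq {g : G} (hg : g * g = 1) (x : Ω) : Swaps g x (g • x) :=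
  ⟨rfl, by rw [← mul_smul, hg, one_smul]⟩

/-- The hypotheses. -/
structure Hyp (Ω : Type*) [MulAction G Ω] (t : G) (i : ℕ) : Prop where
  two : IsMultiplyPretransitive G Ω 2
  faith : FaithfulSMul G Ω
  ord : orderOf t = 2
  fix : nfixed Ω t = i
  cent : ∀ g : G, Commute g t → g ≠ 1 → nfixed Ω g = i

namespace Hyp

variable {t : G} {i : ℕ} (h : Hyp Ω t i)
include h

theorem sq : t * t = 1 := by rw [← pow_two, ← h.ord, pow_orderOf_eq_one]

theorem ne_one : t ≠ 1 := fun e => by have := h.ord; rw [e, orderOf_one] at this; omega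

theorem exists_map {x y x' y' : Ω} (hxy : x ≠ y) (hxy' : x' ≠ y') :
    ∃ g : G, g • x = x' ∧ g • y = y' :=
  MulAction.is_two_pretransitive_iff.1 h.two hxy hxy'

theorem exists_swaps {x y : Ω} (hxy : x ≠ y) : ∃ g : G, Swaps g x y :=
  h.exists_map hxy hxy.symm

theorem exists_smul (x y : Ω) : ∃ g : G, g • x = y :=
  haveI := h.two
  haveI := isPretransitive_of_is_two_pretransitive (G := G) (α := Ω)
  MulAction.exists_smul_eq G x y

theorem exists_moved : ∃ x : Ω, t • x ≠ x := by
  by_contra hc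
  push Not at hc
  have := h.faith
  exact h.ne_one (eq_of_smul_eq_smul fun x : Ω => (hc x).trans (one_smul G x).symm)

theorem fix_lt [Finite Ω] : i < Nat.card Ω := by
  obtain ⟨x, hx⟩ := h.exists_moved
  rw [← h.fix]
  exact Set.ncard_lt_card fun e => hx (mem_fixSet.1 (e ▸ Set.mem_univ x))

end Hyp

section Count

variable {t : G} {i : ℕ} (h : Hyp Ω t i) [Finite G] [Finite Ω]
include h

/-- The class of `t`. -/
theorem card_class_mul_cent : Nat.card {g : G // IsConj t g} *
    Nat.card ↥(Subgroup.centralizer ({t} : Set G)) = Nat.card G := by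
  classical
  have e : {g : G | IsConj t g} = MulAction.orbit (ConjAct G) t := by
    ext g
    rw [Set.mem_setOf_eq, ConjAct.mem_orbit_conjAct, isConj_comm]
  have h1 := MulAction.index_stabilizer (ConjAct G) t
  have h2 : Nat.card (MulAction.orbit (ConjAct G) t) *
      Nat.card (MulAction.stabilizer (ConjAct G) t) = Nat.card (ConjAct G) := by
    rw [Nat.card_coe_set_eq, ← h1, Subgroup.index_mul_card]
  rw [← e] at h2
  rw [ConjAct.stabilizer_eq_centralizer] at h2
  exact h2

theorem card_group {a b : Ω} (hab : a ≠ b) :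
    Nat.card G = Nat.card {p : Ω × Ω // p.1 ≠ p.2} * Nat.card ↥(Zass.two G a b) := by
  classical
  have := Fintype.ofFinite G
  have := Fintype.ofFinite Ω
  choose k hk using fun p : {p : Ω × Ω // p.1 ≠ p.2} => h.exists_map hab p.2
  rw [← Nat.card_prod]
  refine Nat.card_congr
    { toFun := fun g => (⟨(g • a, g • b), fun e => hab (MulAction.injective g e)⟩,
        ⟨(k ⟨(g • a, g • b), fun e => hab (MulAction.injective g e)⟩)⁻¹ * g, ?_⟩)
      invFun := fun q => k q.1 * (q.2 : G)
      left_inv := fun g => by simp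
      right_inv := fun q => ?_ }
  · rw [Zass.mem_two, mul_smul, mul_smul, inv_smul_eq_iff, inv_smul_eq_iff]
    have hne : g • a ≠ g • b := fun e => hab (MulAction.injective g e)
    exact ⟨(hk ⟨(g • a, g • b), hne⟩).1.symm, (hk ⟨(g • a, g • b), hne⟩).2.symm⟩
  · obtain ⟨⟨⟨x, y⟩, hp⟩, q, hq⟩ := q
    obtain ⟨h1, h2⟩ := Zass.mem_two.1 hq
    obtain ⟨k1, k2⟩ := hk ⟨(x, y), hp⟩
    have e1 : (k ⟨(x, y), hp⟩ * q) • a = x := by rw [mul_smul, h1, k1]
    have e2 : (k ⟨(x, y), hp⟩ * q) • b = y := by rw [mul_smul, h2, k2]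
    simp [e1, e2]

theorem card_pairs_moved : Nat.card {g : G // IsConj t g} * (Nat.card Ω - i) =
    Nat.card {p : {g : G // IsConj t g} × Ω // (p.1 : G) • p.2 ≠ p.2} := by
  classical
  have := Fintype.ofFinite G
  have := Fintype.ofFinite Ω
  suffices hcard : ∀ g : {g : G // IsConj t g},
      Nat.card {x : Ω // (g : G) • x ≠ x} = Nat.card Ω - i by
    rw [Nat.card_congr (Equiv.subtypeProdEquivSigmaSubtype
      fun (g : {g : G // IsConj t g}) (x : Ω) => (g : G) • x ≠ x), Nat.card_sigma,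
      Finset.sum_congr rfl fun g _ => hcard g, Finset.sum_const, Finset.card_univ,
      Nat.card_eq_fintype_card (α := {g : G // IsConj t g}), smul_eq_mul]
  intro g
  obtain ⟨c, hc⟩ := isConj_iff.1 g.2
  have h1 : Nat.card {x : Ω // (g : G) • x ≠ x} = (fixSet Ω (g : G))ᶜ.ncard :=
    Nat.card_coe_set_eq _
  have h2 : nfixed Ω (g : G) = i := by rw [← hc, nfixed_conj, h.fix]
  rw [h1, Set.ncard_compl, ← nfixed, h2]

omit [Finite Ω] in
theorem conj_mul_self {g : G} (hg : IsConj t g) : g * g = 1 := by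
  obtain ⟨c, rfl⟩ := isConj_iff.1 hg
  rw [show c * t * c⁻¹ * (c * t * c⁻¹) = c * (t * t) * c⁻¹ by group, h.sq, mul_one, mul_inv_cancel]

theorem card_pairs_moved' {a b : Ω} (hab : a ≠ b) :
    Nat.card {p : {g : G // IsConj t g} × Ω // (p.1 : G) • p.2 ≠ p.2} =
      Nat.card {p : Ω × Ω // p.1 ≠ p.2} * Nat.card {g : G // IsConj t g ∧ Swaps g a b} := by
  classical
  have := Fintype.ofFinite G
  have := Fintype.ofFinite Ω
  let f : {p : {g : G // IsConj t g} × Ω // (p.1 : G) • p.2 ≠ p.2} → {p : Ω × Ω // p.1 ≠ p.2} :=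
    fun p => ⟨(p.1.2, (p.1.1 : G) • p.1.2), fun e => p.2 e.symm⟩
  suffices hcard : ∀ q, Nat.card {p // f p = q} = Nat.card {g : G // IsConj t g ∧ Swaps g a b} by
    rw [← Nat.card_congr (Equiv.sigmaFiberEquiv f), Nat.card_sigma,
      Finset.sum_congr rfl fun q _ => hcard q, Finset.sum_const, Finset.card_univ,
      Nat.card_eq_fintype_card (α := {p : Ω × Ω // p.1 ≠ p.2}), smul_eq_mul]
  rintro ⟨⟨x, y⟩, hxy⟩
  obtain ⟨k, (hkx : k • a = x), (hky : k • b = y)⟩ := h.exists_map hab hxy
  refine Nat.card_congr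
    { toFun := fun p => ⟨k⁻¹ * (p.1.1.1 : G) * k, ?_⟩
      invFun := fun g => ⟨⟨(⟨k * g.1 * k⁻¹, g.2.1.trans (isConj_iff.2 ⟨k, rfl⟩)⟩, x), ?_⟩, ?_⟩
      left_inv := fun p => ?_
      right_inv := fun g => by apply Subtype.ext; simp [mul_assoc] }
  · obtain ⟨⟨⟨⟨g, hg⟩, z⟩, hz⟩, e⟩ := p
    have e1 : z = x := congrArg (fun q => q.1.1) e
    have e2 : g • z = y := congrArg (fun q => q.1.2) e
    rw [e1] at e2
    refine ⟨hg.trans (isConj_iff.2 ⟨k⁻¹, by rw [inv_inv]⟩), ?_, ?_⟩
    · rw [mul_smul, mul_smul, hkx, e2, inv_smul_eq_iff, hky]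
    · rw [mul_smul, mul_smul, hky, inv_smul_eq_iff, hkx]
      show g • y = x
      refine (congrArg (g • ·) e2.symm).trans ?_
      show g • g • x = x
      rw [← mul_smul, conj_mul_self h hg, one_smul]
  · show (k * g.1 * k⁻¹) • x ≠ x
    rw [← hkx, mul_smul, inv_smul_smul, mul_smul, g.2.2.1]
    exact fun e => hab (MulAction.injective k e).symm
  · refine Subtype.ext (Prod.ext rfl ?_)
    show (k * g.1 * k⁻¹) • x = y
    rw [← hkx, mul_smul, inv_smul_smul, mul_smul, g.2.2.1, hky]
  · obtain ⟨⟨⟨⟨g, hg⟩, z⟩, hz⟩, e⟩ := p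
    have e1 : z = x := congrArg (fun q => q.1.1) e
    refine Subtype.ext (Subtype.ext (Prod.ext (Subtype.ext ?_) e1.symm))
    simp [mul_assoc]

theorem cent_le : Nat.card ↥(Subgroup.centralizer ({t} : Set G)) ≤ Nat.card Ω - i := by
  classical
  set C := Subgroup.centralizer ({t} : Set G)
  have := Fintype.ofFinite G
  have := Fintype.ofFinite Ω
  have := Fintype.ofFinite C
  have hb := MulAction.sum_card_fixedBy_eq_card_orbits_mul_card_group C Ω
  rw [← Finset.add_sum_erase _ _ (Finset.mem_univ (1 : C))] at hb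
  have h1 : Fintype.card (fixedBy Ω (1 : C)) = Nat.card Ω := by
    rw [← Nat.card_eq_fintype_card, fixedBy_one_eq_univ, Nat.card_univ]
  have hg : ∀ g ∈ Finset.univ.erase (1 : C), Fintype.card (fixedBy Ω g) = i := fun g hg => by
    rw [← Nat.card_eq_fintype_card]
    exact h.cent g (Subgroup.mem_centralizer_singleton_iff.1 g.2)
      fun e => Finset.ne_of_mem_erase hg (Subtype.ext e)
  rw [h1, Finset.sum_congr rfl hg, Finset.sum_const, Finset.card_erase_of_mem (Finset.mem_univ _),
    Finset.card_univ, smul_eq_mul] at hb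
  rw [Nat.card_eq_fintype_card (α := C)]
  have hpos : 0 < Fintype.card C := Fintype.card_pos
  have hlt := h.fix_lt
  set r := Fintype.card (Quotient (orbitRel C Ω))
  refine Nat.le_of_dvd (by omega) ?_
  have e : Nat.card Ω - i + Fintype.card C * i = Fintype.card C * r := by
    rw [mul_comm _ r, ← hb, show Fintype.card C * i = (Fintype.card C - 1) * i + i by
      rw [← Nat.succ_mul]; congr 1; omega]
    omega
  exact (Nat.dvd_add_left (dvd_mul_right _ i)).1 (e ▸ dvd_mul_right _ r)

/-- The centraliser has order `n - i`, and every interchange of two points is a conjugate of `t`. -/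
theorem count {a b : Ω} (hab : a ≠ b) :
    Nat.card ↥(Subgroup.centralizer ({t} : Set G)) + i = Nat.card Ω ∧
      ∀ g : G, Swaps g a b → IsConj t g := by
  classical
  set hh := Nat.card ↥(Zass.two G a b)
  set c := Nat.card {g : G // IsConj t g ∧ Swaps g a b}
  obtain ⟨w, hw⟩ := h.exists_swaps hab
  let f : {g : G // Swaps g a b} ≃ ↥(Zass.two G a b) :=
    { toFun := fun g => ⟨w⁻¹ * g.1, by
        rw [Zass.mem_two, mul_smul, mul_smul, inv_smul_eq_iff, inv_smul_eq_iff, g.2.1, g.2.2,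
          hw.1, hw.2]
        exact ⟨rfl, rfl⟩⟩
      invFun := fun k => ⟨w * k.1, by
        obtain ⟨h1, h2⟩ := Zass.mem_two.1 k.2
        exact ⟨by rw [mul_smul, h1, hw.1], by rw [mul_smul, h2, hw.2]⟩⟩
      left_inv := fun g => Subtype.ext (mul_inv_cancel_left w g.1)
      right_inv := fun k => Subtype.ext (inv_mul_cancel_left w k.1) }
  let j : {g : G // IsConj t g ∧ Swaps g a b} → {g : G // Swaps g a b} := fun g => ⟨g.1, g.2.2⟩
  have hj : Function.Injective j := fun x y e => Subtype.ext (Subtype.mk.inj e)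
  have hc : c ≤ hh := (Nat.card_le_card_of_injective j hj).trans_eq (Nat.card_congr f)
  have hP : 0 < Nat.card {p : Ω × Ω // p.1 ≠ p.2} :=
    haveI : Nonempty {p : Ω × Ω // p.1 ≠ p.2} := ⟨⟨(a, b), hab⟩⟩
    Nat.card_pos
  have e1 := card_class_mul_cent h
  have e2 := card_group h hab
  have e3 := (card_pairs_moved h).trans (card_pairs_moved' h hab)
  have hle := cent_le h
  have hlt := h.fix_lt
  set C := Nat.card ↥(Subgroup.centralizer ({t} : Set G))
  set P := Nat.card {p : Ω × Ω // p.1 ≠ p.2}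
  set T := Nat.card {g : G // IsConj t g}
  have key : hh * (Nat.card Ω - i) = c * C := by
    refine Nat.eq_of_mul_eq_mul_left hP ?_
    calc P * (hh * (Nat.card Ω - i)) = P * hh * (Nat.card Ω - i) := by ring
      _ = T * C * (Nat.card Ω - i) := by rw [← e2, ← e1]
      _ = T * (Nat.card Ω - i) * C := by ring
      _ = P * c * C := by rw [e3]
      _ = P * (c * C) := by ring
  have hh0 : 0 < hh := Nat.card_pos
  have hC : C = Nat.card Ω - i := by
    refine le_antisymm hle (Nat.le_of_mul_le_mul_left ?_ hh0)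
    rw [key]
    exact Nat.mul_le_mul_right _ hc
  refine ⟨by omega, fun g hg => ?_⟩
  have hch : c = hh := by
    rw [hC] at key
    exact (Nat.eq_of_mul_eq_mul_right (by omega) key).symm
  have hb := ((Nat.bijective_iff_injective_and_card j).2
    ⟨hj, hch.trans (Nat.card_congr f).symm⟩).2 ⟨g, hg⟩
  obtain ⟨g', hg'⟩ := hb
  have : (g' : G) = g := congrArg Subtype.val hg'
  exact this ▸ g'.2.1

end Count

namespace Hyp

variable {t : G} {i : ℕ} (h : Hyp Ω t i) [Finite G] [Finite Ω]
include h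

theorem isConj_of_swaps {g : G} {x y : Ω} (hxy : x ≠ y) (hg : Swaps g x y) : IsConj t g :=
  (count h hxy).2 g hg

theorem card_cent : Nat.card ↥(Subgroup.centralizer ({t} : Set G)) + i = Nat.card Ω := by
  obtain ⟨x, hx⟩ := h.exists_moved
  exact (count h (Ne.symm hx)).1

theorem isConj_of_sq {g : G} (hg : g * g = 1) (hg1 : g ≠ 1) : IsConj t g := by
  obtain ⟨x, hx⟩ : ∃ x : Ω, g • x ≠ x := by
    by_contra hc
    push Not at hc
    have := h.faith
    exact hg1 (eq_of_smul_eq_smul fun x : Ω => (hc x).trans (one_smul G x).symm)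
  exact h.isConj_of_swaps (Ne.symm hx) (swaps_of_sq hg x)

theorem nfixed_of_sq {g : G} (hg : g * g = 1) (hg1 : g ≠ 1) : nfixed Ω g = i := by
  obtain ⟨c, rfl⟩ := isConj_iff.1 (h.isConj_of_sq hg hg1)
  rw [nfixed_conj, h.fix]

theorem nfixed_of_commute {s g : G} (hs : s * s = 1) (hs1 : s ≠ 1) (hgs : Commute g s)
    (hg1 : g ≠ 1) : nfixed Ω g = i := by
  obtain ⟨c, rfl⟩ := isConj_iff.1 (h.isConj_of_sq hs hs1)
  rw [← nfixed_conj c⁻¹ g, inv_inv]
  refine h.cent _ ?_ (fun e => hg1 ?_)
  · have := (Commute.conj_iff c⁻¹).2 hgs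
    rwa [inv_inv, show c⁻¹ * (c * t * c⁻¹) * c = t by group] at this
  · rw [show g = c * (c⁻¹ * g * c) * c⁻¹ by group, e]
    group

theorem swaps_sq {g : G} {x y : Ω} (hxy : x ≠ y) (hg : Swaps g x y) : g * g = 1 :=
  conj_mul_self h (h.isConj_of_swaps hxy hg)

/-- An element interchanging two points inverts their stabiliser. -/
theorem inverts {g k : G} {x y : Ω} (hxy : x ≠ y) (hg : Swaps g x y) (hx : k • x = x)
    (hy : k • y = y) : g * k * g⁻¹ = k⁻¹ := by
  have h1 := h.swaps_sq hxy hg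
  have h2 : g * k * (g * k) = 1 := h.swaps_sq hxy
    ⟨by rw [mul_smul, hx, hg.1], by rw [mul_smul, hy, hg.2]⟩
  rw [inv_eq_of_mul_eq_one_right h1]
  exact eq_inv_of_mul_eq_one_left (by rwa [mul_assoc (g * k)])

theorem two_comm {p q : G} {x y : Ω} (hxy : x ≠ y) (hp : p • x = x ∧ p • y = y)
    (hq : q • x = x ∧ q • y = y) : Commute p q := by
  obtain ⟨w, hw⟩ := h.exists_swaps hxy
  have e1 := h.inverts hxy hw hp.1 hp.2
  have e2 := h.inverts hxy hw hq.1 hq.2
  have e3 := h.inverts (k := p * q) hxy hw (by rw [mul_smul, hq.1, hp.1])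
    (by rw [mul_smul, hq.2, hp.2])
  rw [show w * (p * q) * w⁻¹ = w * p * w⁻¹ * (w * q * w⁻¹) by group, e1, e2, mul_inv_rev] at e3
  exact Commute.inv_inv_iff.1 e3

end Hyp

end Cfsg.Agent.Fixity88
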