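import Cfsg.Agent.Fixity88.Basic

/-!
If the common number of fixed points is at least two, it is exactly two and no non-identity element
fixes three points (helper88).
-/

set_option autoImplicit false
set_option linter.unusedSectionVars false

namespace Cfsg.Agent.Fixity88

open MulAction Cfsg.Agent.CharDeep

variable {G Ω : Type*} [Group G] [MulAction G Ω] {t : G} {i : ℕ}

theorem sq_of_commute_inverts {g k : G} (h : Commute g k) (h' : g * k * g⁻¹ = k⁻¹) : k * k = 1 := by
  rw [h.eq, mul_inv_cancel_right] at h'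
  exact eq_inv_iff_mul_eq_one.1 h'

theorem mul_self_comm {g k : G} (hg : g * g = 1) (hk : k * k = 1) (hgk : g * k * (g * k) = 1) :
    Commute g k := by
  show g * k = k * g
  rw [eq_inv_of_mul_eq_one_left hgk, mul_inv_rev, ← eq_inv_of_mul_eq_one_left hg,
    ← eq_inv_of_mul_eq_one_left hk]

namespace Hyp

variable (h : Hyp Ω t i) [Finite G] [Finite Ω]
include h

theorem exists_two_fixed (hi : 2 ≤ i) {g : G} (hg : nfixed Ω g = i) :
    ∃ x y : Ω, x ≠ y ∧ g • x = x ∧ g • y = y := by
  obtain ⟨x, hx, y, hy, hxy⟩ := (Set.one_lt_ncard (Set.toFinite _)).1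
    (show 1 < (fixSet Ω g).ncard by rw [← nfixed, hg]; omega)
  exact ⟨x, y, hxy, hx, hy⟩

theorem exists_invol (hi : 2 ≤ i) {x y : Ω} (hxy : x ≠ y) :
    ∃ u : G, u * u = 1 ∧ u ≠ 1 ∧ u • x = x ∧ u • y = y := by
  obtain ⟨a, b, hab, ha, hb⟩ := h.exists_two_fixed hi h.fix
  obtain ⟨g, rfl, rfl⟩ := h.exists_map hab hxy
  refine ⟨g * t * g⁻¹, ?_, fun e => h.ne_one (conj_eq_one_iff.1 e), ?_, ?_⟩
  · rw [show g * t * g⁻¹ * (g * t * g⁻¹) = g * (t * t) * g⁻¹ by group, h.sq, mul_one, mul_inv_cancel]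
  · rw [mul_smul, mul_smul, inv_smul_smul, ha]
  · rw [mul_smul, mul_smul, inv_smul_smul, hb]

theorem nfixed_eq_of_pair (hi : 2 ≤ i) {k : G} {x y : Ω} (hxy : x ≠ y) (hk : k ≠ 1)
    (hx : k • x = x) (hy : k • y = y) : nfixed Ω k = i := by
  obtain ⟨u, hu2, hu1, hux, huy⟩ := h.exists_invol hi hxy
  exact h.nfixed_of_commute hu2 hu1 (h.two_comm hxy ⟨hx, hy⟩ ⟨hux, huy⟩) hk

/-- The non-identity elements fixing two given points have the same fixed points. -/
theorem same_fix (hi : 2 ≤ i) {k k' : G} {x y : Ω} (hxy : x ≠ y) (hk : k ≠ 1) (hk' : k' ≠ 1)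
    (hx : k • x = x) (hy : k • y = y) (hx' : k' • x = x) (hy' : k' • y = y) :
    fixSet Ω k = fixSet Ω k' := by
  have hn := fun {g : G} (hg : g ≠ 1) (h1 : g • x = x) (h2 : g • y = y) =>
    h.nfixed_eq_of_pair hi hxy hg h1 h2
  -- an element of order at least three has the fixed points of every involution
  have hbig : ∀ {g u : G}, g • x = x → g • y = y → g * g ≠ 1 → u • x = x → u • y = y → u * u = 1 →
      u ≠ 1 → fixSet Ω g = fixSet Ω u := by
    intro g u hgx hgy hg2 hux huy hu2 hu1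
    have hg1 : g ≠ 1 := fun e => hg2 (by rw [e, one_mul])
    refine Set.eq_of_subset_of_ncard_le (fun z hz => ?_) ?_ (Set.toFinite _)
    · rw [mem_fixSet] at hz ⊢
      by_contra hne
      have hc := h.two_comm hxy ⟨hgx, hgy⟩ ⟨hux, huy⟩
      have hgz : g • u • z = u • z := by rw [← mul_smul, hc.eq, mul_smul, hz]
      exact hg2 (sq_of_commute_inverts hc.symm
        (h.inverts (Ne.symm hne) (swaps_of_sq hu2 z) hz hgz))
    · rw [← nfixed, ← nfixed, hn hg1 hgx hgy, hn hu1 hux huy]
  obtain ⟨u, hu2, hu1, hux, huy⟩ := h.exists_invol hi hxy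
  by_cases hA : ∃ g : G, g • x = x ∧ g • y = y ∧ g * g ≠ 1
  · obtain ⟨g, hgx, hgy, hg2⟩ := hA
    have key : ∀ k : G, k ≠ 1 → k • x = x → k • y = y → fixSet Ω k = fixSet Ω u := by
      intro k hk hx hy
      by_cases hkk : k * k = 1
      · rw [← hbig hgx hgy hg2 hx hy hkk hk, hbig hgx hgy hg2 hux huy hu2 hu1]
      · exact hbig hx hy hkk hux huy hu2 hu1
    rw [key k hk hx hy, key k' hk' hx' hy']
  push Not at hA
  -- every two-point stabiliser has exponent two, so centralisers of involutions are abelian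
  have hexp : ∀ g : G, ∀ p q : Ω, p ≠ q → g • p = p → g • q = q → g * g = 1 := by
    intro g p q hpq hp hq
    obtain ⟨c, rfl, rfl⟩ := h.exists_map hxy hpq
    have := hA (c⁻¹ * g * c) (by rw [mul_smul, mul_smul, hp, inv_smul_smul])
      (by rw [mul_smul, mul_smul, hq, inv_smul_smul])
    rw [show c⁻¹ * g * c * (c⁻¹ * g * c) = c⁻¹ * (g * g) * c by group] at this
    calc g * g = c * (c⁻¹ * (g * g) * c) * c⁻¹ := by group
      _ = 1 := by rw [this]; group
  have hsq : ∀ g : G, Commute g u → g * g = 1 := by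
    intro g hg
    by_cases hg1 : g = 1
    · rw [hg1, one_mul]
    obtain ⟨p, q, hpq, hp, hq⟩ := h.exists_two_fixed hi (h.nfixed_of_commute hu2 hu1 hg hg1)
    exact hexp g p q hpq hp hq
  have key : ∀ k : G, k ≠ 1 → k • x = x → k • y = y → fixSet Ω k = fixSet Ω u := by
    intro k hk hx hy
    refine (Set.eq_of_subset_of_ncard_le (fun z hz => ?_)
      (by rw [← nfixed, ← nfixed, hn hu1 hux huy, hn hk hx hy]) (Set.toFinite _)).symm
    rw [mem_fixSet] at hz ⊢
    rcases eq_or_ne x z with rfl | hxz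
    · exact hx
    obtain ⟨w, hw⟩ := h.exists_swaps hxz
    have hwu : Commute w u := by
      have := h.inverts hxz hw hux hz
      rw [← eq_inv_of_mul_eq_one_left hu2] at this
      exact mul_inv_eq_iff_eq_mul.1 this
    have hku : Commute k u := h.two_comm hxy ⟨hx, hy⟩ ⟨hux, huy⟩
    have hwk : Commute w k :=
      mul_self_comm (hsq w hwu) (hsq k hku) (hsq (w * k) (hwu.mul_left hku))
    rw [← hw.1, ← mul_smul, ← hwk.eq, mul_smul, hx]
  rw [key k hk hx hy, key k' hk' hx' hy']

/-- Three or more fixed points are impossible. -/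
theorem i_eq_two (hi : 2 ≤ i) : i = 2 := by
  classical
  by_contra hne
  have hi3 : 3 ≤ i := by omega
  obtain ⟨a, b, hab, ha, hb⟩ := h.exists_two_fixed hi h.fix
  -- the elements fixing `a` and `b` centralise `t` and fix its fixed points
  have htwo : ∀ k : G, k ∈ Zass.two G a b → Commute k t ∧ ∀ z : Ω, t • z = z → k • z = z := by
    intro k hk
    obtain ⟨h1, h2⟩ := Zass.mem_two.1 hk
    refine ⟨h.two_comm hab ⟨h1, h2⟩ ⟨ha, hb⟩, fun z hz => ?_⟩
    by_cases hk1 : k = 1
    · rw [hk1, one_smul]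
    have := h.same_fix hi hab hk1 h.ne_one h1 h2 ha hb
    exact mem_fixSet.1 (this ▸ mem_fixSet.2 hz)
  -- centralising elements moving a fixed point of `t` are involutions
  have hmove : ∀ g : G, Commute g t → ∀ z : Ω, t • z = z → g • z ≠ z → g * g = 1 := by
    intro g hg z hz hgz
    have hg1 : g ≠ 1 := fun e => hgz (by rw [e, one_smul])
    obtain ⟨p, q, hpq, hp, hq⟩ := h.exists_two_fixed hi (h.cent g hg hg1)
    have key : ∀ p : Ω, g • p = p → t • p ≠ p → g * g = 1 := fun p hp htp => by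
      have hgp : g • t • p = t • p := by rw [← mul_smul, hg.eq, mul_smul, hp]
      exact sq_of_commute_inverts hg.symm
        (h.inverts (Ne.symm htp) (swaps_of_sq h.sq p) hp hgp)
    by_cases htp : t • p = p
    · by_cases htq : t • q = q
      · have := h.same_fix hi hpq hg1 h.ne_one hp hq htp htq
        exact absurd (mem_fixSet.1 (this.symm ▸ mem_fixSet.2 hz)) hgz
      · exact key q hq htq
    · exact key p hp htp
  -- swappers of fixed points centralise `t`
  have hswap : ∀ p q : Ω, p ≠ q → t • p = p → t • q = q → ∀ w : G, Swaps w p q → Commute w t := by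
    intro p q hpq hp hq w hw
    have := h.inverts hpq hw hp hq
    rw [← eq_inv_of_mul_eq_one_left h.sq] at this
    exact mul_inv_eq_iff_eq_mul.1 this
  obtain ⟨c, hc, hca, hcb⟩ : ∃ c, t • c = c ∧ c ≠ a ∧ c ≠ b := by
    by_contra hcon
    push Not at hcon
    have hsub : fixSet Ω t ⊆ {a, b} := fun z hz => by
      rcases eq_or_ne z a with rfl | hza
      · exact Or.inl rfl
      · exact Or.inr (hcon z hz hza)
    have := (Set.ncard_le_ncard hsub (Set.toFinite _)).trans (Set.ncard_pair hab).le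
    rw [← nfixed, h.fix] at this
    omega
  obtain ⟨g₁, hg₁⟩ := h.exists_swaps hab
  obtain ⟨g₂, hg₂⟩ := h.exists_swaps hca.symm
  have hg₁t := hswap a b hab ha hb g₁ hg₁
  have hg₂t := hswap a c hca.symm ha hc g₂ hg₂
  -- so the centraliser has exponent two
  have hexp : ∀ g : G, Commute g t → g * g = 1 := by
    intro g hg
    by_cases hgf : g • a = a ∧ g • b = b
    swap
    · rcases not_and_or.1 hgf with hga | hgb
      · exact hmove g hg a ha hga
      · exact hmove g hg b hb hgb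
    have hgc : g • c = c := (htwo g (Zass.mem_two.2 hgf)).2 c hc
    have e1 : g₁ * g * g₁⁻¹ = g⁻¹ := h.inverts hab hg₁ hgf.1 hgf.2
    have e2 : g₂ * g * g₂⁻¹ = g⁻¹ := h.inverts hca.symm hg₂ hgf.1 hgc
    have hm : (g₁ * g₂) • a ≠ a := by
      rw [mul_smul, hg₂.1]
      intro e
      exact hcb (MulAction.injective g₁ (e.trans hg₁.2.symm))
    have e3 : g₁ * g₂ * g * (g₁ * g₂)⁻¹ = g := by
      rw [show g₁ * g₂ * g * (g₁ * g₂)⁻¹ = g₁ * (g₂ * g * g₂⁻¹) * g₁⁻¹ by group, e2, ← conj_inv,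
        e1, inv_inv]
    have e4 : g₁ * g₂ * g * (g₁ * g₂)⁻¹ = g⁻¹ := by
      have s1 := hmove (g₁ * g₂) (hg₁t.mul_left hg₂t) a ha hm
      have s2 := hmove (g₁ * g₂ * g) ((hg₁t.mul_left hg₂t).mul_left hg) a ha
        (by rwa [mul_smul, hgf.1])
      rw [inv_eq_of_mul_eq_one_right s1]
      exact eq_inv_of_mul_eq_one_left (by rwa [mul_assoc (g₁ * g₂ * g)])
    exact eq_inv_iff_mul_eq_one.1 (e3.symm.trans e4)
  have hcomm : ∀ g g' : G, Commute g t → Commute g' t → Commute g g' := fun g g' hg hg' =>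
    mul_self_comm (hexp g hg) (hexp g' hg') (hexp _ (hg.mul_left hg'))
  -- its order is `i · h`
  set C := Subgroup.centralizer ({t} : Set G)
  have hCmem : ∀ g : G, g ∈ C ↔ Commute g t := fun g => Subgroup.mem_centralizer_singleton_iff
  have horb : MulAction.orbit C a = fixSet Ω t := by
    ext z
    rw [mem_fixSet]
    constructor
    · rintro ⟨⟨g, hg⟩, rfl⟩
      show t • g • a = g • a
      rw [← mul_smul, ← ((hCmem g).1 hg).eq, mul_smul, ha]
    · intro hz
      rcases eq_or_ne a z with rfl | hne'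
      · exact mem_orbit_self _
      obtain ⟨w, hw⟩ := h.exists_swaps hne'
      exact ⟨⟨w, (hCmem w).2 (hswap a z hne' ha hz w hw)⟩, hw.1⟩
  have hstab : Nat.card (MulAction.stabilizer C a) = Nat.card ↥(Zass.two G a b) := by
    refine Nat.card_congr
      { toFun := fun g => ⟨(g.1 : G), g.2, ?_⟩
        invFun := fun k => ⟨⟨k.1, (hCmem _).2 (htwo _ k.2).1⟩, (Zass.mem_two.1 k.2).1⟩
        left_inv := fun g => rfl
        right_inv := fun k => rfl }
    have hga : (g.1 : G) • a = a := g.2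
    obtain ⟨w, hw⟩ := h.exists_swaps hab
    show (g.1 : G) • b = b
    rw [← hw.1, ← mul_smul,
      (hcomm _ _ ((hCmem _).1 g.1.2) (hswap a b hab ha hb w hw)).eq, mul_smul, hga]
  set hh := Nat.card ↥(Zass.two G a b)
  have hcardC : Nat.card C = i * hh := by
    rw [← hstab, ← Subgroup.index_mul_card (MulAction.stabilizer C a), index_stabilizer, horb,
      ← nfixed, h.fix]
  have hn := h.card_cent
  rw [hcardC] at hn
  -- a power of two
  obtain ⟨e, he⟩ : ∃ e, Nat.card C = 2 ^ e := by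
    haveI : Fact (Nat.Prime 2) := ⟨Nat.prime_two⟩
    refine IsPGroup.iff_card.1 fun g => ⟨1, Subtype.ext ?_⟩
    rw [pow_one, pow_two]
    exact hexp _ ((hCmem _).1 g.2)
  -- lines through `a`
  have hdiv : i - 1 ∣ Nat.card Ω - 1 := by
    have := Fintype.ofFinite Ω
    choose u hu2 hu1 hua hux using fun (x : {x : Ω // x ≠ a}) => h.exists_invol hi (Ne.symm x.2)
    let L : {x : Ω // x ≠ a} → Set Ω := fun x => fixSet Ω (u x)
    have hL : ∀ y : {x : Ω // x ≠ a}, Nat.card {x // L x = L y} = i - 1 := by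
      intro y
      have e1 : Nat.card {x // L x = L y} = Nat.card ↥(L y \ {a}) := by
        refine Nat.card_congr
          { toFun := fun x => ⟨x.1.1, ⟨Set.ext_iff.1 x.2 x.1.1 |>.1 (hux x.1), x.1.2⟩⟩
            invFun := fun z => ⟨⟨z.1, z.2.2⟩, ?_⟩
            left_inv := fun x => rfl
            right_inv := fun z => rfl }
        exact h.same_fix hi (Ne.symm z.2.2) (hu1 _) (hu1 _) (hua _) (hux ⟨z.1, z.2.2⟩) (hua y)
          z.2.1
      rw [e1, Nat.card_coe_set_eq, Set.ncard_sdiff_singleton_of_mem (show a ∈ L y from hua y)]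
      exact congrArg (· - 1) (h.nfixed_of_sq (hu2 y) (hu1 y))
    have hsum : Nat.card Ω - 1 = Fintype.card {x : Ω // x ≠ a} := by
      rw [Nat.card_eq_fintype_card, Fintype.card_subtype_compl, Fintype.card_subtype_eq]
    rw [hsum, ← Finset.card_univ, Finset.card_eq_sum_card_image L]
    refine Finset.dvd_sum fun l hl => ?_
    obtain ⟨y, -, rfl⟩ := Finset.mem_image.1 hl
    rw [← Fintype.card_subtype, ← Nat.card_eq_fintype_card, hL y]
  have hhpos : 0 < hh := Nat.card_pos
  have h1 : i - 1 ∣ hh := by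
    have e' : Nat.card Ω - 1 = (i - 1) * (hh + 1) + hh := by
      obtain ⟨j, rfl⟩ : ∃ j, i = j + 1 := ⟨i - 1, by omega⟩
      rw [← hn, show j + 1 - 1 = j by omega]
      have : (j + 1) * hh + (j + 1) = j * (hh + 1) + hh + 1 := by ring
      omega
    rw [e'] at hdiv
    exact (Nat.dvd_add_right (dvd_mul_right _ _)).1 hdiv
  have hd1 : i - 1 ∣ 2 ^ e := h1.trans (by rw [← he, hcardC]; exact dvd_mul_left _ _)
  have hd2 : i ∣ 2 ^ e := by rw [← he, hcardC]; exact dvd_mul_right _ _
  obtain ⟨p, -, hp⟩ := (Nat.dvd_prime_pow Nat.prime_two).1 hd1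
  obtain ⟨q, -, hq⟩ := (Nat.dvd_prime_pow Nat.prime_two).1 hd2
  rcases p with _ | p
  · simp at hp; omega
  rcases q with _ | q
  · simp at hq; omega
  rw [pow_succ] at hp hq
  omega

/-- With at least two fixed points no non-identity element fixes three points. -/
theorem high_three (hi : 2 ≤ i) {g : G} {x y z : Ω} (hxy : x ≠ y) (hyz : y ≠ z) (hxz : x ≠ z)
    (hx : g • x = x) (hy : g • y = y) (hz : g • z = z) : g = 1 := by
  classical
  by_contra hg
  have h2 := h.nfixed_eq_of_pair hi hxy hg hx hy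
  rw [h.i_eq_two hi] at h2
  have : ({x, y, z} : Set Ω) ⊆ fixSet Ω g := by
    intro w hw
    rcases hw with rfl | rfl | rfl <;> assumption
  have h3 := Set.ncard_le_ncard this (Set.toFinite _)
  rw [← nfixed, h2, Set.ncard_eq_three.2 ⟨x, y, z, hxy, hxz, hyz, rfl⟩] at h3
  omega

end Hyp

end Cfsg.Agent.Fixity88
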