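import Cfsg.Agent.Fixity88.Basic
import Cfsg.Agent.ZStar.Main
import Cfsg.Agent.PF14.Compose

/-!
If the common number of fixed points is at most one, then either no non-identity element fixes three
points, or the group has a regular normal subgroup (helper88).
-/

set_option autoImplicit false
set_option linter.unusedSectionVars false

namespace Cfsg.Agent.Fixity88

open MulAction Cfsg.Agent.CharDeep

variable {G Ω : Type*} [Group G] [MulAction G Ω] {t : G} {i : ℕ}

/-- The group has a normal subgroup acting regularly. -/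
def HasRegular (G Ω : Type*) [Group G] [MulAction G Ω] : Prop :=
  ∃ R : Subgroup G, R.Normal ∧ (∀ x y : Ω, ∃ r ∈ R, r • x = y) ∧
    ∀ x : Ω, ∀ r ∈ R, r • x = x → r = 1

/-- A permutation of order two of a finite set has as many fixed points as the set has points,
modulo two. -/
theorem card_mod_two {α : Type*} [Finite α] (f : α → α) (hf : ∀ x, f (f x) = x) :
    Nat.card α % 2 = Nat.card {x // f x = x} % 2 := by
  classical
  have := Fintype.ofFinite α
  have := Equiv.Perm.card_fixedPoints_modEq (f := (f : Function.End α)) (p := 2) (n := 1)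
    (funext hf)
  rw [Nat.card_eq_fintype_card, Nat.card_eq_fintype_card]
  exact this

/-- An element with an odd number of fixed points is normalised by no fixed point free involution. -/
theorem exists_fixed_of_odd [Finite Ω] {s k : G} (hs : s * s = 1) (hsk : ∀ p ∈ fixSet Ω k, s • p ∈ fixSet Ω k)
    (hodd : Odd (fixSet Ω k).ncard) : ∃ p ∈ fixSet Ω k, s • p = p := by
  have h := card_mod_two (fun p : fixSet Ω k => (⟨s • p.1, hsk p.1 p.2⟩ : fixSet Ω k))
    (fun p => Subtype.ext (by show s • s • p.1 = p.1; rw [← mul_smul, hs, one_smul]))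
  rw [Nat.card_coe_set_eq, Nat.odd_iff.1 hodd] at h
  have hpos : 0 < Nat.card {x : fixSet Ω k // (⟨s • x.1, hsk x.1 x.2⟩ : fixSet Ω k) = x} := by
    omega
  obtain ⟨p, hp⟩ := (Nat.card_pos_iff.1 hpos).1
  exact ⟨p.1, p.2, congrArg Subtype.val hp⟩

/-- An element inverting `k` preserves its fixed points. -/
theorem preserves_of_inverts {s k : G} (hs : s * k * s⁻¹ = k⁻¹) {p : Ω} (hp : p ∈ fixSet Ω k) :
    s • p ∈ fixSet Ω k := by
  rw [mem_fixSet] at hp ⊢
  have e : k = s * k⁻¹ * s⁻¹ := by rw [← conj_inv, hs, inv_inv]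
  conv_lhs => rw [e]
  rw [mul_smul, mul_smul, inv_smul_smul, inv_smul_eq_iff.2 hp.symm]

/-- An element centralising `k` preserves its fixed points. -/
theorem preserves_of_commute {s k : G} (hs : Commute s k) {p : Ω} (hp : p ∈ fixSet Ω k) :
    s • p ∈ fixSet Ω k := by
  rw [mem_fixSet] at hp ⊢
  rw [← mul_smul, ← hs.eq, mul_smul, hp]

theorem inverts_pow {v k : G} (hv : v * k * v⁻¹ = k⁻¹) : ∀ m : ℕ,
    v ^ m * k * (v ^ m)⁻¹ = if Even m then k else k⁻¹ := by
  intro m
  induction m with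
  | zero => simp
  | succ m ih =>
    rw [pow_succ', show v * v ^ m * k * (v * v ^ m)⁻¹ = v * (v ^ m * k * (v ^ m)⁻¹) * v⁻¹ by group, ih]
    by_cases hm : Even m
    · rw [if_pos hm, if_neg (by rw [Nat.even_add_one]; exact not_not.2 hm), hv]
    · rw [if_neg hm, if_pos (Nat.even_add_one.2 hm), ← conj_inv, hv, inv_inv]

namespace Hyp

variable (h : Hyp Ω t i) [Finite G] [Finite Ω]
include h

theorem no_invol_two (hi : i ≤ 1) {u : G} {x y : Ω} (hxy : x ≠ y) (hu : u * u = 1)
    (hx : u • x = x) (hy : u • y = y) : u = 1 := by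
  by_contra hu1
  have h1 := h.nfixed_of_sq hu hu1
  have h2 : 1 < (fixSet Ω u).ncard := (Set.one_lt_ncard (Set.toFinite _)).2 ⟨x, hx, y, hy, hxy⟩
  rw [← nfixed, h1] at h2
  omega

theorem no_commuting_invol (hi : i ≤ 1) {u k : G} {x y : Ω} (hxy : x ≠ y) (hk : k ≠ 1)
    (hx : k • x = x) (hy : k • y = y) (hu : u * u = 1) (huk : Commute u k) : u = 1 := by
  by_contra hu1
  have h1 := h.nfixed_of_commute hu hu1 huk.symm hk
  have h2 : 1 < (fixSet Ω k).ncard := (Set.one_lt_ncard (Set.toFinite _)).2 ⟨x, hx, y, hy, hxy⟩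
  rw [← nfixed, h1] at h2
  omega

/-- If no involution inverting `k` fixes one of its fixed points, `k` fixes only two points. -/
theorem two_of_free (hi : i ≤ 1) {k : G} {x y z : Ω} (hxy : x ≠ y) (hyz : y ≠ z) (hxz : x ≠ z)
    (hk : k ≠ 1) (hx : k • x = x) (hy : k • y = y) (hz : k • z = z)
    (hfree : ∀ u : G, u * u = 1 → u * k * u⁻¹ = k⁻¹ → ∀ p ∈ fixSet Ω k, u • p ≠ p) : False := by
  have hkk : k * k ≠ 1 := fun e => hk (h.no_invol_two hi hxy e hx hy)
  have horb : ∀ p q : Ω, p ≠ q → k • p = p → k • q = q → ∀ g : G, Commute g k → g • p ≠ q := by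
    intro p q hpq hp hq g hg hgpq
    obtain ⟨w, hw⟩ := h.exists_swaps hpq
    set v := g⁻¹ * w with hv
    have hvp : v • p = p := by rw [hv, mul_smul, hw.1, ← hgpq, inv_smul_smul]
    have hvk : v * k * v⁻¹ = k⁻¹ := by
      have e := h.inverts hpq hw hp hq
      calc v * k * v⁻¹ = g⁻¹ * (w * k * w⁻¹) * g := by rw [hv]; group
        _ = k⁻¹ := by rw [e, mul_assoc, hg.inv_right.symm.eq, inv_mul_cancel_left]
    have hpow := inverts_pow hvk
    rcases Nat.even_or_odd (orderOf v) with hev | hod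
    · obtain ⟨m, hm⟩ := hev
      have hm0 : 0 < m := by have := orderOf_pos v; omega
      have hu : v ^ m * v ^ m = 1 := by rw [← pow_add, ← hm, pow_orderOf_eq_one]
      have hu1 : v ^ m ≠ 1 := fun e => by
        have := Nat.le_of_dvd hm0 (orderOf_dvd_of_pow_eq_one e); omega
      have hup : v ^ m • p = p := by
        have : v ∈ stabilizer G p := hvp
        exact (stabilizer G p).pow_mem this m
      by_cases hme : Even m
      · have := hpow m
        rw [if_pos hme] at this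
        exact hu1 (h.no_commuting_invol hi hxy hk hx hy hu (mul_inv_eq_iff_eq_mul.1 this))
      · have := hpow m
        rw [if_neg hme] at this
        exact hfree _ hu this p hp hup
    · have := hpow (orderOf v)
      rw [if_neg (Nat.not_even_iff_odd.2 hod), pow_orderOf_eq_one, one_mul, inv_one, mul_one] at this
      exact hkk (eq_inv_iff_mul_eq_one.1 this)
  obtain ⟨w₁, hw₁⟩ := h.exists_swaps hxy
  obtain ⟨w₂, hw₂⟩ := h.exists_swaps hxz
  have e1 := h.inverts hxy hw₁ hx hy
  have e2 := h.inverts hxz hw₂ hx hz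
  refine horb z y hyz.symm hz hy (w₁ * w₂) (mul_inv_eq_iff_eq_mul.1 ?_) ?_
  · rw [show w₁ * w₂ * k * (w₁ * w₂)⁻¹ = w₁ * (w₂ * k * w₂⁻¹) * w₁⁻¹ by group, e2, ← conj_inv, e1,
      inv_inv]
  · rw [mul_smul, hw₂.2, hw₁.1]

/-- Otherwise every involution fixing a fixed point of `k` inverts `k`. -/
theorem inverts_of_fixed (hi : i ≤ 1) {k u : G} {x y : Ω} (hxy : x ≠ y) (hk : k ≠ 1)
    (hx : k • x = x) (hy : k • y = y) (hu : u * u = 1) (huk : u * k * u⁻¹ = k⁻¹)
    {p₀ : Ω} (hp₀ : p₀ ∈ fixSet Ω k) (hup : u • p₀ = p₀) :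
    i = 1 ∧ ∀ s : G, s * s = 1 → s ≠ 1 → ∀ p ∈ fixSet Ω k, s • p = p → s * k * s⁻¹ = k⁻¹ := by
  classical
  have hkk : k * k ≠ 1 := fun e => hk (h.no_invol_two hi hxy e hx hy)
  have hne : ∀ {s : G}, s * k * s⁻¹ = k⁻¹ → s ≠ 1 := fun {s} hs e => hkk (by
    rw [e, one_mul, inv_one, mul_one] at hs; exact eq_inv_iff_mul_eq_one.1 hs)
  have hu1 := hne huk
  have hi1 : i = 1 := by
    have h1 := h.nfixed_of_sq hu hu1
    have : 0 < (fixSet Ω u).ncard := (Set.ncard_pos (Set.toFinite _)).2 ⟨p₀, hup⟩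
    rw [← nfixed, h1] at this
    omega
  subst hi1
  have huniq : ∀ {s : G}, s * s = 1 → s ≠ 1 → ∀ p q : Ω, s • p = p → s • q = q → p = q :=
    fun {s} hs hs1 p q hp hq => by
      by_contra hpq
      exact hs1 (h.no_invol_two hi hpq hs hp hq)
  -- the number of fixed points of `k` is odd
  have hodd : Odd (fixSet Ω k).ncard := by
    have hpres : ∀ p ∈ fixSet Ω k, u • p ∈ fixSet Ω k := fun p hp => preserves_of_inverts huk hp
    have h1 := card_mod_two (fun p : fixSet Ω k => (⟨u • p.1, hpres p.1 p.2⟩ : fixSet Ω k))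
      (fun p => Subtype.ext (by show u • u • p.1 = p.1; rw [← mul_smul, hu, one_smul]))
    have h2 : Nat.card {p : fixSet Ω k // (⟨u • p.1, hpres p.1 p.2⟩ : fixSet Ω k) = p} = 1 :=
      Nat.card_eq_one_iff_unique.2 ⟨⟨fun p q => Subtype.ext (Subtype.ext
        (huniq hu hu1 _ _ (congrArg Subtype.val p.2) (congrArg Subtype.val q.2)))⟩,
        ⟨⟨⟨p₀, hp₀⟩, Subtype.ext hup⟩⟩⟩
    rw [Nat.card_coe_set_eq, h2] at h1
    exact Nat.odd_iff.2 (by omega)
  have := Fintype.ofFinite G
  have := Fintype.ofFinite Ω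
  refine ⟨rfl, ?_⟩
  set φ := Finset.univ.filter (fun p : Ω => k • p = p) with hφ
  set hh := Nat.card ↥(Zass.two G x y)
  set E := Finset.univ.filter (fun s : G => s * s = 1 ∧ s * k * s⁻¹ = k⁻¹) with hE
  have hEfix : ∀ s ∈ E, ∃ p ∈ φ, s • p = p ∧ ∀ q ∈ φ, s • q = q → q = p := by
    intro s hs
    obtain ⟨hs2, hsk⟩ := (Finset.mem_filter.1 hs).2
    obtain ⟨p, hp, hps⟩ := exists_fixed_of_odd hs2 (fun p hp => preserves_of_inverts hsk hp) hodd
    exact ⟨p, Finset.mem_filter.2 ⟨Finset.mem_univ _, hp⟩, hps,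
      fun q _ hq => huniq hs2 (hne hsk) q p hq hps⟩
  -- each ordered pair of fixed points is interchanged by `hh` elements, all of which invert `k`
  have hpair : ∀ p ∈ φ, ∀ q ∈ φ.erase p, (E.filter (fun s => s • p = q)).card = hh := by
    intro p hp q hq
    obtain ⟨hqp, hq⟩ := Finset.mem_erase.1 hq
    rw [hφ, Finset.mem_filter] at hp hq
    obtain ⟨c, hc1, hc2⟩ := h.exists_map hxy (Ne.symm hqp)
    obtain ⟨w, hw⟩ := h.exists_swaps (Ne.symm hqp)
    rw [show hh = Fintype.card (Zass.two G x y) from Nat.card_eq_fintype_card, ← Fintype.card_coe]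
    refine Fintype.card_congr
      { toFun := fun s => ⟨c⁻¹ * (w⁻¹ * s.1) * c, ?_⟩
        invFun := fun g => ⟨w * (c * g.1 * c⁻¹), ?_⟩
        left_inv := fun s => by apply Subtype.ext; simp [mul_assoc]
        right_inv := fun g => by apply Subtype.ext; simp [mul_assoc] }
    · obtain ⟨hsE, hspq⟩ := Finset.mem_filter.1 s.2
      obtain ⟨hs2, -⟩ := (Finset.mem_filter.1 hsE).2
      have hsq : s.1 • q = p := by
        refine (congrArg (s.1 • ·) hspq.symm).trans ?_
        show s.1 • s.1 • p = p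
        rw [← mul_smul, hs2, one_smul]
      rw [Zass.mem_two]
      constructor
      · rw [mul_smul, hc1, mul_smul, mul_smul, hspq, inv_smul_eq_iff.2 hw.1.symm,
          inv_smul_eq_iff.2 hc1.symm]
      · rw [mul_smul, hc2, mul_smul, mul_smul, hsq, inv_smul_eq_iff.2 hw.2.symm,
          inv_smul_eq_iff.2 hc2.symm]
    · obtain ⟨g1, g2⟩ := Zass.mem_two.1 g.2
      have hsw : Swaps (w * (c * g.1 * c⁻¹)) p q := by
        constructor
        · rw [mul_smul, mul_smul, mul_smul, inv_smul_eq_iff.2 hc1.symm, g1, hc1, hw.1]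
        · rw [mul_smul, mul_smul, mul_smul, inv_smul_eq_iff.2 hc2.symm, g2, hc2, hw.2]
      refine Finset.mem_filter.2 ⟨Finset.mem_filter.2 ⟨Finset.mem_univ _,
        h.swaps_sq (Ne.symm hqp) hsw, h.inverts (Ne.symm hqp) hsw hp.2 hq.2⟩, hsw.1⟩
  -- each point is fixed by `hh` involutions
  have hTp : ∀ p : Ω, (Finset.univ.filter (fun s : G => s * s = 1 ∧ s ≠ 1 ∧ s • p = p)).card = hh := by
    set T := Finset.univ.filter (fun s : G => s * s = 1 ∧ s ≠ 1) with hT
    have hTc : T.card = Nat.card {g : G // IsConj t g} := by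
      rw [Nat.card_eq_fintype_card, Fintype.card_subtype]
      congr 1
      ext g
      simp only [hT, Finset.mem_filter, Finset.mem_univ, true_and]
      exact ⟨fun hg => h.isConj_of_sq hg.1 hg.2, fun hg => ⟨conj_mul_self h hg, fun e => by
        obtain ⟨c, hc⟩ := isConj_iff.1 hg
        exact h.ne_one (conj_eq_one_iff.1 (hc.trans e))⟩⟩
    have hsum : T.card = ∑ p : Ω, (T.filter (fun s => s • p = p)).card := by
      have h1 : ∀ s ∈ T, (Finset.univ.filter (fun p : Ω => s • p = p)).card = 1 := fun s hs => by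
        obtain ⟨h2, h3⟩ := (Finset.mem_filter.1 hs).2
        rw [← h.nfixed_of_sq h2 h3, nfixed, ← Set.ncard_coe_finset]
        congr 1
        ext p
        simp [mem_fixSet]
      rw [Finset.card_eq_sum_ones, ← Finset.sum_congr rfl h1]
      simp only [Finset.card_filter]
      rw [Finset.sum_comm]
    intro p
    have hconst : ∀ q : Ω,
        (T.filter (fun s => s • q = q)).card = (T.filter (fun s => s • p = p)).card := by
      intro q
      obtain ⟨c, rfl⟩ := h.exists_smul q p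
      refine Finset.card_bij (fun s _ => c * s * c⁻¹) (fun s hs => ?_)
        (fun s _ s' _ e => by simpa using e) fun s hs => ⟨c⁻¹ * s * c, ?_, by group⟩
      · obtain ⟨hsT, hsq⟩ := Finset.mem_filter.1 hs
        obtain ⟨h2, h3⟩ := (Finset.mem_filter.1 hsT).2
        refine Finset.mem_filter.2 ⟨Finset.mem_filter.2 ⟨Finset.mem_univ _, ?_,
          fun e => h3 (conj_eq_one_iff.1 e)⟩, ?_⟩
        · rw [show c * s * c⁻¹ * (c * s * c⁻¹) = c * (s * s) * c⁻¹ by group, h2, mul_one,
            mul_inv_cancel]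
        · rw [mul_smul, mul_smul, inv_smul_smul, hsq]
      · obtain ⟨hsT, hsq⟩ := Finset.mem_filter.1 hs
        obtain ⟨h2, h3⟩ := (Finset.mem_filter.1 hsT).2
        refine Finset.mem_filter.2 ⟨Finset.mem_filter.2 ⟨Finset.mem_univ _, ?_, ?_⟩, ?_⟩
        · rw [show c⁻¹ * s * c * (c⁻¹ * s * c) = c⁻¹ * (s * s) * c by group, h2, mul_one,
            inv_mul_cancel]
        · intro e
          exact h3 (by rw [show s = c * (c⁻¹ * s * c) * c⁻¹ by group, e, mul_one, mul_inv_cancel])
        · rw [mul_smul, mul_smul, hsq, inv_smul_smul]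
    rw [hsum, Finset.sum_congr rfl fun q _ => hconst q, Finset.sum_const, Finset.card_univ,
      smul_eq_mul] at hTc
    have e1 := card_class_mul_cent h
    have e2 := card_group h hxy
    have e3 := h.card_cent
    have e4 : Nat.card {p : Ω × Ω // p.1 ≠ p.2} = Nat.card Ω * (Nat.card Ω - 1) := by
      rw [Nat.card_eq_fintype_card, Fintype.card_subtype, Nat.card_eq_fintype_card,
        show (Finset.univ.filter fun p : Ω × Ω => p.1 ≠ p.2) = Finset.univ.offDiag by
          ext p; simp, Finset.offDiag_card, Finset.card_univ, Nat.mul_sub, mul_one]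
    have hn2 : 2 ≤ Nat.card Ω := by
      rw [Nat.card_eq_fintype_card]; exact Fintype.one_lt_card_iff.2 ⟨x, y, hxy⟩
    rw [e4, ← e1, show Nat.card ↥(Subgroup.centralizer ({t} : Set G)) = Nat.card Ω - 1 by omega,
      ← hTc, ← Nat.card_eq_fintype_card (α := Ω)] at e2
    have e5 : (T.filter (fun s => s • p = p)).card = hh := by
      refine Nat.eq_of_mul_eq_mul_left (show 0 < Nat.card Ω * (Nat.card Ω - 1) from
        Nat.mul_pos (by omega) (by omega)) ?_
      rw [← e2]; ring
    rw [← e5, hT, Finset.filter_filter]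
    simp only [and_assoc]
  -- compare
  have hsub : ∀ p ∈ φ, E.filter (fun s => s • p = p) ⊆
      Finset.univ.filter (fun s : G => s * s = 1 ∧ s ≠ 1 ∧ s • p = p) := by
    intro p _ s hs
    obtain ⟨hsE, hsp⟩ := Finset.mem_filter.1 hs
    obtain ⟨hs2, hsk⟩ := (Finset.mem_filter.1 hsE).2
    exact Finset.mem_filter.2 ⟨Finset.mem_univ _, hs2, hne hsk, hsp⟩
  have hEcard : ∑ p ∈ φ, (E.filter (fun s => s • p = p)).card = E.card := by
    simp only [Finset.card_filter]
    rw [Finset.sum_comm, Finset.card_eq_sum_ones]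
    refine Finset.sum_congr rfl fun s hs => ?_
    obtain ⟨p, hp, hsp, hu'⟩ := hEfix s hs
    rw [← Finset.card_filter]
    exact Finset.card_eq_one.2 ⟨p, Finset.eq_singleton_iff_unique_mem.2
      ⟨Finset.mem_filter.2 ⟨hp, hsp⟩, fun q hq => hu' q (Finset.mem_filter.1 hq).1
        (Finset.mem_filter.1 hq).2⟩⟩
  have hcount : ∀ p ∈ φ, E.card = (E.filter (fun s => s • p = p)).card + (φ.card - 1) * hh := by
    intro p hp
    have hmaps : ∀ s ∈ E, s • p ∈ φ := fun s hs => Finset.mem_filter.2 ⟨Finset.mem_univ _,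
      preserves_of_inverts (Finset.mem_filter.1 hs).2.2 (Finset.mem_filter.1 hp).2⟩
    rw [Finset.card_eq_sum_card_fiberwise hmaps, ← Finset.add_sum_erase _ _ hp,
      Finset.sum_congr rfl (hpair p hp), Finset.sum_const, Finset.card_erase_of_mem hp, smul_eq_mul]
  have hφ2 : 2 ≤ φ.card := Finset.one_lt_card.2 ⟨x, by simp [hφ, hx], y, by simp [hφ, hy], hxy⟩
  have key : φ.card * E.card = E.card + φ.card * ((φ.card - 1) * hh) := by
    calc φ.card * E.card = ∑ _p ∈ φ, E.card := by rw [Finset.sum_const, smul_eq_mul]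
      _ = ∑ p ∈ φ, ((E.filter (fun s => s • p = p)).card + (φ.card - 1) * hh) :=
        Finset.sum_congr rfl hcount
      _ = _ := by rw [Finset.sum_add_distrib, hEcard, Finset.sum_const, smul_eq_mul]
  have hEφ : E.card = φ.card * hh := by
    obtain ⟨j, hj⟩ : ∃ j, φ.card = j + 1 := ⟨φ.card - 1, by omega⟩
    rw [hj] at key hφ2 ⊢
    rw [show j + 1 - 1 = j by omega, add_mul, one_mul] at key
    refine Nat.eq_of_mul_eq_mul_left (show 0 < j by omega) ?_
    have : j * ((j + 1) * hh) = (j + 1) * (j * hh) := by ring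
    omega
  intro s hs2 hs1 p hp hsp
  have hall := (Finset.sum_eq_sum_iff_of_le (fun q hq =>
    (Finset.card_le_card (hsub q hq)).trans_eq (hTp q))).1
    (by rw [hEcard, hEφ, Finset.sum_const, smul_eq_mul])
  have hpφ : p ∈ φ := Finset.mem_filter.2 ⟨Finset.mem_univ _, hp⟩
  have := Finset.eq_of_subset_of_card_le (hsub p hpφ) (by rw [hTp, hall p hpφ])
  have hmem : s ∈ Finset.univ.filter (fun s : G => s * s = 1 ∧ s ≠ 1 ∧ s • p = p) :=
    Finset.mem_filter.2 ⟨Finset.mem_univ _, hs2, hs1, hsp⟩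
  rw [← this] at hmem
  exact (Finset.mem_filter.1 (Finset.mem_filter.1 hmem).1).2.2

theorem low_three (hi : i ≤ 1) : HasRegular G Ω ∨ ∀ k : G, ∀ x y z : Ω, x ≠ y → y ≠ z → x ≠ z →
    k • x = x → k • y = y → k • z = z → k = 1 := by
  classical
  by_cases hthree : ∀ k : G, ∀ x y z : Ω, x ≠ y → y ≠ z → x ≠ z →
      k • x = x → k • y = y → k • z = z → k = 1
  · exact Or.inr hthree
  refine Or.inl ?_
  push Not at hthree
  obtain ⟨k, x, y, z, hxy, hyz, hxz, hx, hy, hz, hk⟩ := hthree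
  obtain ⟨u, hu, huk, p₀, hp₀, hup⟩ : ∃ u : G, u * u = 1 ∧ u * k * u⁻¹ = k⁻¹ ∧
      ∃ p ∈ fixSet Ω k, u • p = p := by
    by_contra hc
    push Not at hc
    exact h.two_of_free hi hxy hyz hxz hk hx hy hz hc
  obtain ⟨hi1, hall⟩ := h.inverts_of_fixed hi hxy hk hx hy hu huk hp₀ hup
  subst hi1
  have hcomm : ∀ a b : G, a * a = 1 → a ≠ 1 → b * b = 1 → b ≠ 1 → Commute a b → a = b := by
    intro a b ha ha1 hb hb1 hab
    by_contra hne
    obtain ⟨q, hq⟩ := Set.ncard_eq_one.1 (h.nfixed_of_sq ha ha1)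
    have hqa : a • q = q := mem_fixSet.1 (hq ▸ rfl)
    have hbq : b • q = q := by
      have hm : b • q ∈ fixSet Ω a := preserves_of_commute hab.symm (mem_fixSet.2 hqa)
      rwa [hq] at hm
    obtain ⟨c, rfl⟩ := h.exists_smul q x
    have hconj : ∀ g : G, g * g = 1 → g ≠ 1 → g • q = q →
        (c * g * c⁻¹) * k * (c * g * c⁻¹)⁻¹ = k⁻¹ := fun g hg hg1 hgq =>
      hall _ (by rw [show c * g * c⁻¹ * (c * g * c⁻¹) = c * (g * g) * c⁻¹ by group, hg, mul_one,
        mul_inv_cancel]) (fun e => hg1 (conj_eq_one_iff.1 e)) (c • q) hx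
        (by rw [mul_smul, mul_smul, inv_smul_smul, hgq])
    have e1 := hconj a ha ha1 hqa
    have e2 := hconj b hb hb1 hbq
    have h3 : c * (a * b) * c⁻¹ * k * (c * (a * b) * c⁻¹)⁻¹ = k := by
      rw [show c * (a * b) * c⁻¹ * k * (c * (a * b) * c⁻¹)⁻¹ =
        (c * a * c⁻¹) * ((c * b * c⁻¹) * k * (c * b * c⁻¹)⁻¹) * (c * a * c⁻¹)⁻¹ by group, e2,
        ← conj_inv, e1, inv_inv]
    have h4 : c * (a * b) * c⁻¹ = 1 := by
      refine h.no_commuting_invol hi hxy hk hx hy ?_ (mul_inv_eq_iff_eq_mul.1 h3)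
      rw [show c * (a * b) * c⁻¹ * (c * (a * b) * c⁻¹) = c * (a * (b * a) * b) * c⁻¹ by group,
        ← hab.eq, show a * (a * b) * b = (a * a) * (b * b) by group, ha, hb, mul_one, mul_one,
        mul_inv_cancel]
    exact hne ((eq_inv_of_mul_eq_one_left (conj_eq_one_iff.1 h4)).trans
      (eq_inv_of_mul_eq_one_left hb).symm)
  -- the commutators of `t` have odd order
  have hodd : ZStar.OddComm t := by
    intro g
    set s := g * t⁻¹ * g⁻¹ with hs
    have hsq : s * s = 1 := by
      rw [hs, show g * t⁻¹ * g⁻¹ * (g * t⁻¹ * g⁻¹) = g * (t * t)⁻¹ * g⁻¹ by group, h.sq]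
      group
    rw [show t * g * t⁻¹ * g⁻¹ = t * s by rw [hs]; group]
    by_contra hev
    obtain ⟨m, hm⟩ := Nat.not_odd_iff_even.1 hev
    have hm0 : 0 < m := by have := orderOf_pos (t * s); omega
    set z := (t * s) ^ m with hzdef
    have hz2 : z * z = 1 := by rw [hzdef, ← pow_add, ← hm, pow_orderOf_eq_one]
    have hz1 : z ≠ 1 := fun e => by
      have := Nat.le_of_dvd hm0 (orderOf_dvd_of_pow_eq_one e); omega
    have hinv : t * z * t⁻¹ = z⁻¹ := by
      rw [hzdef, ← conj_pow, ← inv_pow]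
      congr 1
      rw [← eq_inv_of_mul_eq_one_left h.sq, mul_inv_rev, ← eq_inv_of_mul_eq_one_left h.sq,
        ← eq_inv_of_mul_eq_one_left hsq, ← mul_assoc t t s, h.sq, one_mul]
    rw [← eq_inv_of_mul_eq_one_left hz2] at hinv
    have hzt : t = z := hcomm t z h.sq h.ne_one hz2 hz1 (mul_inv_eq_iff_eq_mul.1 hinv)
    have hts : Commute t (t * s) := by
      conv => arg 1; rw [hzt, hzdef]
      exact Commute.pow_self _ m
    have hts' : Commute t s := by
      have := (Commute.refl t).inv_right.mul_right hts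
      rwa [inv_mul_cancel_left] at this
    have hs1 : s ≠ 1 := fun e => h.ne_one (inv_eq_one.1 (conj_eq_one_iff.1 e))
    have : t = s := hcomm t s h.sq h.ne_one hsq hs1 hts'
    rw [← this, h.sq, orderOf_one] at hm
    omega
  obtain ⟨N, hN, hNodd, hNt⟩ := ZStar.zStar h.ord hodd
  haveI := hN
  have hNbot : N ≠ ⊥ := by
    rintro rfl
    obtain ⟨q, hq⟩ := Set.ncard_eq_one.1 h.fix
    have hqt : t • q = q := mem_fixSet.1 (hq ▸ rfl)
    obtain ⟨r, hr⟩ := h.exists_moved
    obtain ⟨g, rfl⟩ := h.exists_smul q r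
    refine hr ?_
    have e : t * g = g * t := mul_inv_eq_iff_eq_mul.1 (mul_inv_eq_one.1 (Subgroup.mem_bot.1 (hNt g)))
    rw [← mul_smul, e, mul_smul, hqt]
  haveI : Group.IsSolvable N := PF14.feitThompson N hNodd
  haveI : Nontrivial N := (Subgroup.nontrivial_iff_ne_bot N).2 hNbot
  obtain ⟨n, hn⟩ := (Group.isSolvable_def N).mp inferInstance
  have hex : ∃ n, derivedSeries N n = ⊥ := ⟨n, hn⟩
  have h0 : Nat.find hex ≠ 0 := fun e => by
    have := Nat.find_spec hex
    rw [e, derivedSeries_zero] at this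
    exact top_ne_bot this
  obtain ⟨m, hm⟩ := Nat.exists_eq_add_one_of_ne_zero h0
  set R := (derivedSeries N m).map N.subtype with hR
  have hRn : R.Normal := by rw [hR]; infer_instance
  have hRbot : R ≠ ⊥ := fun e => Nat.find_min hex (show m < Nat.find hex by omega)
    ((Subgroup.map_eq_bot_iff_of_injective _ N.subtype_injective).1 e)
  have hRab : ∀ a ∈ R, ∀ b ∈ R, Commute a b := by
    rintro _ ⟨a, ha, rfl⟩ _ ⟨b, hb, rfl⟩
    have h1 := Subgroup.commutator_mem_commutator ha hb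
    rw [← derivedSeries_succ, ← hm, Nat.find_spec hex, Subgroup.mem_bot] at h1
    exact (commutatorElement_eq_one_iff_commute.mp h1).map N.subtype
  haveI := h.two
  haveI := isPreprimitive_of_is_two_pretransitive h.two
  haveI : IsPretransitive R Ω := by
    refine IsQuasiPreprimitive.isPretransitive_of_normal fun e => hRbot ?_
    rw [Subgroup.eq_bot_iff_forall]
    intro r hr
    have := h.faith
    refine eq_of_smul_eq_smul fun c : Ω => ?_
    have hc : c ∈ fixedPoints R Ω := e ▸ Set.mem_univ c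
    rw [one_smul]
    exact hc ⟨r, hr⟩
  refine ⟨R, hRn, fun a b => ?_, fun a r hr hra => ?_⟩
  · obtain ⟨r, hr⟩ := MulAction.exists_smul_eq R a b
    exact ⟨r, r.2, hr⟩
  · have := h.faith
    refine eq_of_smul_eq_smul fun c : Ω => ?_
    obtain ⟨⟨r', hr'⟩, rfl⟩ := MulAction.exists_smul_eq R a c
    show r • r' • a = (1 : G) • r' • a
    rw [one_smul, ← mul_smul, (hRab r hr r' hr').eq, mul_smul, hra]

end Hyp

end Cfsg.Agent.Fixity88
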