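import Cfsg.Agent.Fixity88.High
import Cfsg.Agent.Fixity88.Low
import Cfsg.Agent.Lib.Perm.SharplyTwo
import Cfsg.Agent.Lib.Zassenhaus.EvenPSL
import Cfsg.Agent.Lib.Zassenhaus.TwoPointEven
import Cfsg.Agent.Lib.Zassenhaus.OddPSL
import Cfsg.Agent.Lib.Zassenhaus.AbelianBound
import Cfsg.Agent.Lib.Zassenhaus.OddKernel
import Cfsg.Agent.Lib.Zassenhaus.KernelPrimePow
import Cfsg.Agent.Lib.Zassenhaus.Normal
import Cfsg.Agent.CharDeep.SzUniq.Main

/-!
Doubly transitive groups with an involution whose centraliser has constant fixity: they are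
`PSL₂(q)`, Suzuki groups, or have a regular normal subgroup (helper88).
-/

set_option autoImplicit false
set_option linter.unusedSectionVars false

namespace Cfsg.Agent.Fixity88

open MulAction Cfsg.Agent.CharDeep

variable {G Ω : Type*} [Group G] [MulAction G Ω] {t : G} {i : ℕ}

/-- A simple Zassenhaus group is a `PSL₂` or a Suzuki group. -/
theorem classify_zassenhaus [Finite G] [Finite Ω] (hZ : Cfsg.IsZassenhausGroup G Ω)
    [IsSimpleGroup G] :
    (∃ (F : Type) (_ : Field F) (_ : Fintype F),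
        Nonempty (G ≃* Matrix.ProjectiveSpecialLinearGroup (Fin 2) F)) ∨
      Cfsg.Lie.IsoSuzuki G := by
  classical
  have := Fintype.ofFinite G
  have := Fintype.ofFinite Ω
  obtain ⟨g, -, a, b, hab, -⟩ := hZ.2.2.2.1
  obtain ⟨U, hU⟩ := Cfsg.Agent.CharDeep.Zass.exists_kernel hZ hab
  rcases Nat.even_or_odd (Nat.card ↥(Cfsg.Agent.CharDeep.Zass.two G a b)) with heven | hodd
  · obtain ⟨F, i1, i2, -, -, -, hiso⟩ := Cfsg.Agent.ZassNormal.exists_psl hZ hab hU heven
      (Cfsg.Agent.ZassNormal.card_two_mul_two hZ hab hU heven)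
    exact Or.inl ⟨F, i1, i2, hiso⟩
  by_cases hcomm : ∀ u v : U, u * v = v * u
  · obtain ⟨F, i1, i2, -, -, hiso⟩ := Cfsg.Agent.ZassNormal.exists_psl_odd hZ hab hU
      (Cfsg.Agent.ZassNormal.abelian_bound hZ hab hU hodd hcomm) hodd
      (fun g => Cfsg.Agent.CharDeep.Zass.swap_sq hZ hab hodd) hcomm
    exact Or.inl ⟨F, i1, i2, hiso⟩
  · right
    rcases Nat.even_or_odd (Nat.card U) with hUe | hUo
    · obtain ⟨p, n, hp, hn, hpn⟩ := (isPrimePow_def _).1
        (Cfsg.Agent.ZassNormal.isPrimePow_kernel hZ hab hU hodd)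
      rw [← hpn, Nat.even_pow] at hUe
      have hp2 : p = 2 := (Nat.prime_iff.2 hp).eq_one_or_self_of_dvd 2
        (even_iff_two_dvd.1 hUe.1) |>.resolve_left (by norm_num) |>.symm
      push Not at hcomm
      exact SzUniq.isoSuzuki hZ hab (fun {inst} => by convert hU)
        (IsPGroup.of_card (n := n) (by rw [← hpn, hp2])) hcomm
    · exact absurd (Cfsg.Agent.ZassNormal.comm_of_odd_kernel hZ hab hU hodd hUo) hcomm

/-- A sharply doubly transitive group has a regular normal subgroup. -/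
theorem hasRegular_of_sharp [Finite Ω] (h2 : IsMultiplyPretransitive G Ω 2) {a b : Ω} (hab : a ≠ b)
    (hs : ∀ g : G, ∀ x y : Ω, x ≠ y → g • x = x → g • y = y → g = 1) : HasRegular G Ω := by
  haveI := h2
  have hsharp : ∀ e : Fin 2 ↪ Ω, stabilizer G e = ⊥ := fun e => by
    rw [Subgroup.eq_bot_iff_forall]
    intro g hg
    rw [mem_stabilizer_iff] at hg
    exact hs g (e 0) (e 1) (e.injective.ne (by decide))
      (congrArg (fun f : Fin 2 ↪ Ω => f 0) hg) (congrArg (fun f : Fin 2 ↪ Ω => f 1) hg)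
  obtain ⟨p, j, N, -, -, -, hN, -, -, htr, hreg, -⟩ :=
    Cfsg.Agent.Perm.SharplyTwo.exists_translations hsharp
      (Finite.one_lt_card_iff_nontrivial.2 ⟨a, b, hab⟩)
  refine ⟨N, hN, fun x y => ?_, fun x r hr hrx => ?_⟩
  · obtain ⟨r, hr⟩ := MulAction.exists_smul_eq N x y
    exact ⟨r, r.2, hr⟩
  · have : (⟨r, hr⟩ : N) ∈ stabilizer N x := hrx
    rw [hreg x, Subgroup.mem_bot] at this
    exact congrArg Subtype.val this

/-- The classification. -/
theorem classify [Finite G] [Finite Ω] (h : Hyp Ω t i) :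
    (∃ (F : Type) (_ : Field F) (_ : Fintype F),
        Nonempty (G ≃* Matrix.ProjectiveSpecialLinearGroup (Fin 2) F)) ∨
      Cfsg.Lie.IsoSuzuki G ∨ HasRegular G Ω := by
  classical
  by_cases hreg : HasRegular G Ω
  · exact Or.inr (Or.inr hreg)
  have hthree : ∀ g : G, ∀ a b c : Ω, a ≠ b → b ≠ c → a ≠ c →
      g • a = a → g • b = b → g • c = c → g = 1 := by
    rcases Nat.lt_or_ge i 2 with hi | hi
    · exact (h.low_three (by omega)).resolve_left hreg
    · exact fun g a b c hab hbc hac ha hb hc => h.high_three hi hab hbc hac ha hb hc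
  obtain ⟨a, ha⟩ := h.exists_moved
  have hZ : Cfsg.IsZassenhausGroup G Ω := by
    refine ⟨h.faith, h.two, hthree, ?_, ?_⟩
    · by_contra hc
      push Not at hc
      exact hreg (hasRegular_of_sharp h.two ha.symm fun g x y hxy hx hy => by_contra fun hg =>
        hc g hg x y hxy hx hy)
    · intro N hN hNt
      by_contra hc
      push Not at hc
      refine hreg ⟨N, hN, fun x y => ?_, fun x r hr hrx => ?_⟩
      · obtain ⟨r, hr⟩ := MulAction.exists_smul_eq N x y
        exact ⟨r, r.2, hr⟩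
      · have : (⟨r, hr⟩ : N) ∈ stabilizer N x := hrx
        rw [hc x, Subgroup.mem_bot] at this
        exact congrArg Subtype.val this
  haveI : Nontrivial G := ⟨⟨t, 1, h.ne_one⟩⟩
  haveI : IsSimpleGroup G := by
    refine ⟨fun N hN => or_iff_not_imp_left.2 fun hbot => eq_top_iff.2 fun g _ => ?_⟩
    haveI := hN
    have h2 := ZassNormal.two_pretransitive_normal hZ N hbot
    obtain ⟨w, hw1, hw2⟩ := MulAction.is_two_pretransitive_iff.1 h2 ha.symm ha
    have hwc : IsConj t (w : G) := h.isConj_of_swaps ha.symm ⟨hw1, hw2⟩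
    -- every element interchanging two points lies in `N`
    have hsw : ∀ k : G, Swaps k a (t • a) → k ∈ N := fun k hk => by
      obtain ⟨c, hc⟩ := isConj_iff.1 (hwc.symm.trans (h.isConj_of_swaps ha.symm hk))
      exact hc ▸ hN.conj_mem _ w.2 c
    obtain ⟨k, hk1, hk2⟩ := MulAction.is_two_pretransitive_iff.1 h2 ha.symm
      (show g • a ≠ g • t • a from fun e => ha (MulAction.injective g e).symm)
    replace hk1 : (k : G) • a = g • a := hk1
    replace hk2 : (k : G) • t • a = g • t • a := hk2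
    have hk : (w : G) * ((k : G)⁻¹ * g) ∈ N := hsw _ (by
      constructor
      · rw [mul_smul, mul_smul, inv_smul_eq_iff.2 hk1.symm]; exact hw1
      · rw [mul_smul, mul_smul, inv_smul_eq_iff.2 hk2.symm]; exact hw2)
    have h4 := N.mul_mem k.2 ((Subgroup.mul_mem_cancel_left N w.2).1 hk)
    rwa [mul_inv_cancel_left] at h4
  exact (classify_zassenhaus hZ).imp id Or.inl

end Cfsg.Agent.Fixity88
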